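import Groth.Agent.PicPnLib.Main
import Groth.Agent.InvX.Tensor
import Groth.Agent.KFlatLib.Scheme.PullTensor
import Groth.Agent.KFlatLib.Scheme.TensorAssoc
import Groth.Agent.Lib.CurveTensor
import Groth.Agent.PicClLib.Basic

/-!
# Twists are distinct; automorphisms of projective space fix them
-/

set_option linter.style.haveILetI false
set_option linter.unusedSectionVars false
set_option backward.isDefEq.respectTransparency false
set_option backward.isDefEq.respectTransparency.types false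
set_option maxHeartbeats 1000000

universe u

open CategoryTheory CategoryTheory.Limits AlgebraicGeometry TopologicalSpace Opposite
open Groth.Agent.PnCoh Groth.Agent.PnCoh.Finite Groth.Agent.AModX Groth.Agent.InvX

noncomputable section

namespace Groth.Agent.PicPnLib

variable {n : ℕ} {R : Type u} [CommRing R] [IsDomain R] [UniqueFactorizationMonoid R]

local notation "𝒜" => CohB1.polyGrading n R
local notation "P" => MvPolynomial (Fin (n + 1)) R

section Values

variable (K : Type u) [Field K] [Algebra (MvPolynomial (Fin (n + 1)) R) K]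
  [IsFractionRing (MvPolynomial (Fin (n + 1)) R) K]

/-- Values of functions on a chart. -/
theorem exists_chart_value (i : Fin (n + 1)) (s : Γ(Proj 𝒜, Dc i)) :
    ∃ (a : ℕ) (F : P), F.IsHomogeneous a ∧ ev K _ (eta_mem_Dc i) s = algebraMap P K F / xv R K i ^ a := by
  obtain ⟨z, hz⟩ := (ConcreteCategory.bijective_of_isIso
    (Proj.basicOpenIsoAway 𝒜 (MvPolynomial.X i) (X_mem i) (by norm_num)).hom).2 s
  obtain ⟨a, F, hF, rfl⟩ := HomogeneousLocalization.Away.mk_surjective 𝒜 (X_mem i) z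
  refine ⟨a, F, by simpa using hF, ?_⟩
  rw [← hz]
  refine (congrArg (locHom K) (ProjectiveSpectrum.Proj.awayToSection_apply 𝒜 (MvPolynomial.X i) _ _)).trans ?_
  rw [HomogeneousLocalization.Away.val_mk, Localization.mk_eq_mk', IsLocalization.map_mk',
    ← Localization.mk_eq_mk', locHom_mk]
  simp [xv]

/-- Units on a chart are constants. -/
theorem exists_chart_unit (i : Fin (n + 1)) {s : Γ(Proj 𝒜, Dc i)} (hs : IsUnit s) :
    ∃ c : R, IsUnit c ∧ ev K _ (eta_mem_Dc i) s = kv n K c := by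
  have hle : Dc (R := R) i ⊓ Dc i ≤ Dc i := inf_le_left
  obtain ⟨c, m, hc, h⟩ := exists_unit_value K i i (hs.map ((Proj 𝒜).presheaf.map (homOfLE hle).op).hom)
  refine ⟨c, hc, ?_⟩
  rw [div_self (xv_ne_zero K i), one_zpow, mul_one] at h
  exact h

/-- Transport of the transition relation along a morphism. -/
theorem ev_transport {d d' : ℤ} (θ : Twist.twist 𝒜 d ⟶ Twist.twist 𝒜 d') (u : ∀ i, Γ(Proj 𝒜, Dc i))
    (hu : ∀ i, θ.app (Dc i) (tfr d i) = u i • res (Twist.twist 𝒜 d') le_rfl (tfr d' i)) (a b : Fin (n + 1)) :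
    ev K _ (eta_mem_Dc a) (u a) * (xv R K a / xv R K b) ^ d' =
      (xv R K a / xv R K b) ^ d * ev K _ (eta_mem_Dc b) (u b) := by
  let W := Dc (R := R) a ⊓ Dc b
  have ha : W ≤ Dc a := inf_le_left
  have hb : W ≤ Dc b := inf_le_right
  have h : eta ∈ W := eta_inf a b
  obtain ⟨g, hg⟩ := (isFrame_tfr d b).exists_coord hb (res (Twist.twist 𝒜 d) ha (tfr d a))
  obtain ⟨g', hg'⟩ := (isFrame_tfr d' b).exists_coord hb (res (Twist.twist 𝒜 d') ha (tfr d' a))
  have h1 := congrArg (θ.app W) hg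
  rw [Scheme.Modules.Hom.app_smul, app_res, app_res, hu, hu, res_smul, res_smul, res_res, res_res, hg',
    ← mul_smul, ← mul_smul] at h1
  have h2 := congrArg (ev K W h) ((isFrame_tfr d' b).coord_unique hb h1)
  rw [map_mul, map_mul, ev_tfr K d a b ha hb h hg.symm, ev_tfr K d' a b ha hb h hg'.symm] at h2
  exact h2

include K in
theorem twist_inj_aux {d d' : ℤ} (e : Twist.twist 𝒜 d ≅ Twist.twist 𝒜 d') {a b : Fin (n + 1)} (hab : b ≠ a) :
    d = d' := by
  have hu : ∀ i, ∃ v : Γ(Proj 𝒜, Dc i), IsUnit v ∧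
      e.hom.app (Dc i) (tfr d i) = v • res (Twist.twist 𝒜 d') le_rfl (tfr d' i) := by
    intro i
    obtain ⟨v, hv⟩ := (isFrame_tfr d' i).exists_coord le_rfl (e.hom.app (Dc i) (tfr d i))
    obtain ⟨w, hw⟩ := (isFrame_tfr d i).exists_coord le_rfl (e.inv.app (Dc i) (tfr d' i))
    refine ⟨v, IsUnit.of_mul_eq_one w ?_, hv⟩
    refine (isFrame_tfr d i).coord_unique le_rfl ?_
    simp only [res_self] at hv hw ⊢
    have h1 : e.inv.app (Dc i) (e.hom.app (Dc i) (tfr d i)) = tfr d i :=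
      congrArg (fun f => Scheme.Modules.Hom.app f (Dc i) (tfr d i)) e.hom_inv_id
    rw [hv, Scheme.Modules.Hom.app_smul, hw, ← mul_smul] at h1
    rw [one_smul]
    exact h1
  choose v hv hve using hu
  obtain ⟨ca, hca, ea⟩ := exists_chart_unit K a (hv a)
  obtain ⟨cb, hcb, eb⟩ := exists_chart_unit K b (hv b)
  have h := ev_transport K e.hom v hve a b
  rw [ea, eb] at h
  have hq : (xv R K a / xv R K b : K) ≠ 0 := div_ne_zero (xv_ne_zero K a) (xv_ne_zero K b)
  have h' : (kv n K ca : K) * (xv R K a / xv R K b) ^ (d' - d) = kv n K cb := by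
    rw [zpow_sub₀ hq, ← mul_div_assoc, h, mul_div_cancel_left₀ _ (zpow_ne_zero _ hq)]
  obtain ⟨h0, -⟩ := indep₂ K hab hca.ne_zero h'
  omega

include K in
theorem hom_neg_one_aux {a b : Fin (n + 1)} (hab : a ≠ b)
    (θ : Twist.twist 𝒜 0 ⟶ Twist.twist 𝒜 (-1)) : θ = 0 := by
  have hu : ∀ i, ∃ v : Γ(Proj 𝒜, Dc i),
      θ.app (Dc i) (tfr 0 i) = v • res (Twist.twist 𝒜 (-1)) le_rfl (tfr (-1) i) := fun i =>
    (isFrame_tfr (-1) i).exists_coord le_rfl _
  choose v hv using hu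
  have hzero : ∀ i j, i ≠ j → ev K _ (eta_mem_Dc i) (v i) = 0 := by
    intro i j hij
    obtain ⟨p, F, hF, eF⟩ := exists_chart_value K i (v i)
    obtain ⟨q, G, hG, eG⟩ := exists_chart_value K j (v j)
    have h := ev_transport K θ v hv i j
    rw [eF, eG, zpow_zero, one_mul, zpow_neg, zpow_one] at h
    have := xv_ne_zero (R := R) K i
    have := xv_ne_zero (R := R) K j
    field_simp at h
    have h' : F * MvPolynomial.X j ^ (q + 1) = MvPolynomial.X i ^ (p + 1) * G := by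
      apply IsFractionRing.injective P K
      rw [map_mul, map_mul, map_pow, map_pow]
      show algebraMap P K F * xv R K j ^ (q + 1) = xv R K i ^ (p + 1) * algebraMap P K G
      linear_combination h
    have hdvd : (MvPolynomial.X i : P) ^ (p + 1) ∣ MvPolynomial.X j ^ (q + 1) * F :=
      ⟨G, by rw [mul_comm, h']⟩
    have hnd : ¬ (MvPolynomial.X i : P) ∣ MvPolynomial.X j ^ (q + 1) := fun hd => by
      have := MvPolynomial.X_dvd_X.1 ((prime_X i).dvd_of_dvd_pow hd)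
      exact hij this
    obtain ⟨Q, hQ⟩ := (prime_X i).pow_dvd_of_dvd_mul_left _ hnd hdvd
    rw [eF]
    suffices F = 0 by rw [this, map_zero, zero_div]
    by_contra hF0
    have h1 := hF.totalDegree hF0
    have hQ0 : Q ≠ 0 := fun h => hF0 (by rw [hQ, h, mul_zero])
    rw [hQ, MvPolynomial.totalDegree_mul_of_isDomain (pow_ne_zero _ (MvPolynomial.X_ne_zero i)) hQ0,
      MvPolynomial.totalDegree_X_pow] at h1
    omega
  refine hom_ext_of_frames (fun i => Dc i) exists_mem_Dc (fun i => tfr 0 i) (isFrame_tfr 0) fun i => ?_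
  obtain ⟨j, hj⟩ : ∃ j, i ≠ j := if h : i = a then ⟨b, h ▸ hab⟩ else ⟨a, h⟩
  rw [hv i, ev_injective (K := K) _ (eta_mem_Dc i) ((hzero i j hj).trans (map_zero _).symm), zero_smul]
  rfl

end Values

theorem twist_inj {d d' : ℤ} (hn : 1 ≤ n) (e : Twist.twist 𝒜 d ≅ Twist.twist 𝒜 d') : d = d' := by
  let P' := MvPolynomial (Fin (n + 1)) R
  have h : ∀ (K : Type u) (_ : Field K) (_ : Algebra P' K) (_ : IsFractionRing P' K), d = d' :=
    fun K _ _ _ => twist_inj_aux K e (a := ⟨0, by omega⟩) (b := ⟨1, by omega⟩) (by simp [Fin.ext_iff])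
  exact h (FractionRing P') inferInstance inferInstance inferInstance

theorem hom_neg_one (hn : 1 ≤ n) (θ : Twist.twist 𝒜 0 ⟶ Twist.twist 𝒜 (-1)) : θ = 0 := by
  let P' := MvPolynomial (Fin (n + 1)) R
  have h : ∀ (K : Type u) (_ : Field K) (_ : Algebra P' K) (_ : IsFractionRing P' K), θ = 0 :=
    fun K _ _ _ => hom_neg_one_aux K (a := ⟨0, by omega⟩) (b := ⟨1, by omega⟩) (by simp [Fin.ext_iff]) θ
  exact h (FractionRing P') inferInstance inferInstance inferInstance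

/-- On a point all twists agree. -/
theorem twist_iso_of_zero (hn : n = 0) (d d' : ℤ) : Nonempty (Twist.twist 𝒜 d ≅ Twist.twist 𝒜 d') := by
  refine nonempty_iso_of_frames (tfr d) (tfr d') (isFrame_tfr d) (isFrame_tfr d') fun a b W ha hb g g' hg hg' => ?_
  obtain rfl : a = b := Fin.ext (by omega)
  rw [(isFrame_tfr d a).coord_unique ha (show g • res _ ha (tfr d a) = (1 : Γ(Proj 𝒜, W)) • res _ ha (tfr d a) by
      rw [one_smul]; exact hg),
    (isFrame_tfr d' a).coord_unique ha (show g' • res _ ha (tfr d' a) = (1 : Γ(Proj 𝒜, W)) • res _ ha (tfr d' a) by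
      rw [one_smul]; exact hg')]

/-- A nonzero section of `O(1)`. -/
theorem exists_hom_one_ne_zero (g : Fin (n + 1)) :
    ∃ θ : Twist.twist 𝒜 0 ⟶ Twist.twist 𝒜 1, θ ≠ 0 := by
  haveI := isIso_oneHom (fun i : ULift.{u} (Fin (n + 1)) => (MvPolynomial.X i.down : P)) (fun i => X_mem i.down)
    (top_le_iff.1 (iSup_Dc.ge.trans (iSup_le fun i => le_iSup_of_le (ULift.up i) le_rfl)))
  let t : Γ(Twist.twist 𝒜 1, ⊤) := Twist.globalOf 𝒜 (i := 1) ⟨MvPolynomial.X g, X_mem g⟩
  refine ⟨inv (oneHom («𝒜» := CohB1.polyGrading n R)) ≫ InvX.ofSect t, fun h => ?_⟩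
  have h0 : InvX.ofSect t = 0 := by
    rw [← cancel_epi (inv (oneHom («𝒜» := CohB1.polyGrading n R))), h, comp_zero]
  have h1 : t = 0 := by
    rw [← InvX.one_ofSect t, h0]
    rfl
  have h2 := congrArg (fun s : Twist.sectN («𝒜» := CohB1.polyGrading n R) 1 (op ⊤) => (s.1 ⟨eta, trivial⟩).1) h1
  change (Localization.mk (MvPolynomial.X g) _ : Twist.Loc 𝒜 eta) = 0 at h2
  let P' := MvPolynomial (Fin (n + 1)) R
  have h3 := congrArg (locHom (FractionRing P')) h2
  rw [locHom_mk, map_zero] at h3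
  simp [MvPolynomial.X_ne_zero] at h3

theorem coords_cover' : (⨆ i : ULift.{u} (Fin (n + 1)), D 𝒜 (MvPolynomial.X i.down : P)) = ⊤ :=
  top_le_iff.1 (iSup_Dc.ge.trans (iSup_le fun i => le_iSup_of_le (ULift.up i) le_rfl))

theorem twist_add' (m l : ℤ) :
    Nonempty (CohB1.tensorMod (Twist.twist 𝒜 m) (Twist.twist 𝒜 l) ≅ Twist.twist 𝒜 (m + l)) :=
  twist_tensor_iso (fun i : ULift.{u} (Fin (n + 1)) => (MvPolynomial.X i.down : P)) (fun i => X_mem i.down)
    coords_cover' m l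

theorem isInvertible_twist' (m : ℤ) : PicF.IsInvertible (Twist.twist 𝒜 m) :=
  isInvertible_twist (fun i : ULift.{u} (Fin (n + 1)) => (MvPolynomial.X i.down : P)) (fun i => X_mem i.down)
    coords_cover' m

theorem twist_zero' : Nonempty (Coh.structureModule (Proj 𝒜) ≅ Twist.twist 𝒜 0) := by
  have h0 := isIso_oneHom (fun i : ULift.{u} (Fin (n + 1)) => (MvPolynomial.X i.down : P)) (fun i => X_mem i.down)
    coords_cover'
  exact ⟨@asIso _ _ _ _ _ h0⟩

/-- Tensor inverses are unique. -/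
theorem inverse_unique {Y : Scheme.{u}} {N A B : Y.Modules} (i₁ : CohB1.tensorMod N A ≅ Coh.structureModule Y)
    (i₂ : CohB1.tensorMod A B ≅ Coh.structureModule Y) : Nonempty (N ≅ B) :=
  ⟨(CurveTensor.structureTensorIso N).symm ≪≫ CurveTensor.commIso _ _ ≪≫ (DCoh.tensorBi.obj N).mapIso i₂.symm ≪≫
    ((((KFlatLib.tensorAssocSch Y).app N).app A).app B).symm ≪≫ (DCoh.tensorBi.mapIso i₁).app B ≪≫
    CurveTensor.structureTensorIso B⟩

/-- Pullback of a product. -/
theorem pullback_tensor_congr {Y Z : Scheme.{u}} (ψ : Y ⟶ Z) {A B C : Z.Modules} {A' B' C' : Y.Modules}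
    (t : CohB1.tensorMod A B ≅ C) (a : (Scheme.Modules.pullback ψ).obj A ≅ A')
    (b : (Scheme.Modules.pullback ψ).obj B ≅ B') (t' : CohB1.tensorMod A' B' ≅ C') :
    Nonempty ((Scheme.Modules.pullback ψ).obj C ≅ C') :=
  ⟨(Scheme.Modules.pullback ψ).mapIso t.symm ≪≫
    @asIso _ _ _ _ (KFlatLib.pullTensorHom ψ A B) (KFlatLib.isIso_pullTensorHom ψ A B) ≪≫
    (DCoh.tensorBi.mapIso a).app _ ≪≫ (DCoh.tensorBi.obj A').mapIso b ≪≫ t'⟩

theorem pullback_twist_mul (ψ : Proj 𝒜 ⟶ Proj 𝒜) (a : ℤ)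
    (h : Nonempty ((Scheme.Modules.pullback ψ).obj (Twist.twist 𝒜 1) ≅ Twist.twist 𝒜 a)) (m : ℤ) :
    Nonempty ((Scheme.Modules.pullback ψ).obj (Twist.twist 𝒜 m) ≅ Twist.twist 𝒜 (a * m)) := by
  obtain ⟨h1⟩ := h
  obtain ⟨o⟩ := PicClLib.nonempty_pullback_structureModule ψ
  obtain ⟨z0⟩ := twist_zero' (n := n) (R := R)
  have hz : Nonempty ((Scheme.Modules.pullback ψ).obj (Twist.twist 𝒜 0) ≅ Twist.twist 𝒜 (a * 0)) := by
    rw [mul_zero]
    exact ⟨(Scheme.Modules.pullback ψ).mapIso z0.symm ≪≫ o ≪≫ z0⟩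
  have hneg : Nonempty ((Scheme.Modules.pullback ψ).obj (Twist.twist 𝒜 (-1)) ≅ Twist.twist 𝒜 (a * -1)) := by
    obtain ⟨t⟩ := twist_add' (n := n) (R := R) (-1) 1
    rw [neg_add_cancel] at t
    obtain ⟨t'⟩ := twist_add' (n := n) (R := R) a (a * -1)
    rw [mul_neg, mul_one, add_neg_cancel] at t'
    obtain ⟨w⟩ := pullback_tensor_congr ψ t (Iso.refl _) h1 (Iso.refl _)
    obtain ⟨r⟩ := inverse_unique (w.symm ≪≫ (Scheme.Modules.pullback ψ).mapIso z0.symm ≪≫ o) (t' ≪≫ z0.symm)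
    rw [mul_neg, mul_one]
    exact ⟨r⟩
  have key : ∀ m l : ℤ, Nonempty ((Scheme.Modules.pullback ψ).obj (Twist.twist 𝒜 m) ≅ Twist.twist 𝒜 (a * m)) →
      Nonempty ((Scheme.Modules.pullback ψ).obj (Twist.twist 𝒜 l) ≅ Twist.twist 𝒜 (a * l)) →
      Nonempty ((Scheme.Modules.pullback ψ).obj (Twist.twist 𝒜 (m + l)) ≅ Twist.twist 𝒜 (a * (m + l))) := by
    rintro m l ⟨em⟩ ⟨el⟩
    obtain ⟨t⟩ := twist_add' (n := n) (R := R) m l
    obtain ⟨t'⟩ := twist_add' (n := n) (R := R) (a * m) (a * l)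
    rw [mul_add]
    exact pullback_tensor_congr ψ t em el t'
  induction m using Int.induction_on with
  | zero => exact hz
  | succ m ih => exact key m 1 ih ⟨h1 ≪≫ eqToIso (by rw [mul_one])⟩
  | pred m ih =>
    have := key (-(m : ℤ)) (-1) ih hneg
    rwa [← sub_eq_add_neg] at this

/-- Automorphisms of projective space fix the twists. -/
theorem pullback_twist (φ : Proj 𝒜 ≅ Proj 𝒜) (d : ℤ) :
    Nonempty ((Scheme.Modules.pullback φ.hom).obj (Twist.twist 𝒜 d) ≅ Twist.twist 𝒜 d) := by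
  have hinv := isInvertible_twist' (n := n) (R := R)
  have hmul := pullback_twist_mul (n := n) (R := R)
  obtain ⟨a, ea⟩ := exists_twist (PicClLib.isInvertible_pullback φ.hom (hinv 1))
  obtain ⟨b, eb⟩ := exists_twist (PicClLib.isInvertible_pullback φ.inv (hinv 1))
  obtain ⟨e⟩ := hmul φ.hom a ea d
  rcases Nat.eq_zero_or_pos n with hn | hn
  · obtain ⟨z⟩ := twist_iso_of_zero (n := n) (R := R) hn (a * d) d
    exact ⟨e ≪≫ z⟩
  obtain ⟨ea⟩ := ea
  obtain ⟨e₂⟩ := hmul φ.inv b eb a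
  have hab : b * a = 1 := twist_inj (n := n) (R := R) hn (e₂.symm ≪≫ (Scheme.Modules.pullback φ.inv).mapIso ea.symm ≪≫
    (Scheme.Modules.pullbackComp φ.inv φ.hom).app _ ≪≫
    (Scheme.Modules.pullbackCongr φ.inv_hom_id).app _ ≪≫ (Scheme.Modules.pullbackId _).app _)
  rcases Int.eq_one_or_neg_one_of_mul_eq_one' hab with ⟨-, rfl⟩ | ⟨rfl, rfl⟩
  · exact ⟨e ≪≫ eqToIso (by rw [one_mul])⟩
  exfalso
  obtain ⟨θ, hθ⟩ := exists_hom_one_ne_zero (n := n) (R := R) 0
  obtain ⟨z⟩ := hmul φ.hom (-1) ⟨ea⟩ 0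
  have h : z.inv ≫ (Scheme.Modules.pullback φ.hom).map θ ≫ ea.hom = 0 := by
    have := hom_neg_one (n := n) (R := R) hn (eqToHom (by rw [mul_zero]) ≫ z.inv ≫ (Scheme.Modules.pullback φ.hom).map θ ≫ ea.hom)
    simpa using this
  apply hθ
  have h' : (Scheme.Modules.pullback φ.hom).map θ = 0 := by
    have := congrArg (fun t => z.hom ≫ t ≫ ea.inv) h
    simpa using this
  let η : Scheme.Modules.pullback φ.hom ⋙ Scheme.Modules.pullback φ.inv ≅ 𝟭 _ :=
    Scheme.Modules.pullbackComp φ.inv φ.hom ≪≫ Scheme.Modules.pullbackCongr φ.inv_hom_id ≪≫ Scheme.Modules.pullbackId _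
  have hn' := η.hom.naturality θ
  simp only [Functor.comp_map, h', Functor.map_zero, zero_comp, Functor.id_map] at hn'
  exact (cancel_epi (η.hom.app _)).1 (hn'.symm.trans comp_zero.symm)

end Groth.Agent.PicPnLib
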