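import Groth.Agent.PicPnLib.Chart
import Groth.Agent.PnCoh.Finite.TwistInv
import Groth.Agent.InvX.Frame

/-!
# Invertible modules on projective space over a factorial ring are twists
-/

set_option linter.style.haveILetI false
set_option linter.unusedSectionVars false
set_option backward.isDefEq.respectTransparency false
set_option backward.isDefEq.respectTransparency.types false
set_option maxHeartbeats 1000000

universe u

open CategoryTheory AlgebraicGeometry TopologicalSpace Opposite
open Groth.Agent.PnCoh Groth.Agent.PnCoh.Finite Groth.Agent.AModX Groth.Agent.InvX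

noncomputable section

namespace Groth.Agent.PicPnLib

variable {n : ℕ} {R : Type u} [CommRing R] [IsDomain R]

local notation "𝒜" => CohB1.polyGrading n R
local notation "P" => MvPolynomial (Fin (n + 1)) R

theorem iSup_Dc : ⨆ i, Dc (n := n) (R := R) i = ⊤ := by
  refine top_le_iff.1 (le_trans (PnCoh.iSup_mOpen_single (ι := Fin (n + 1)) (R := R)).ge ?_)
  exact iSup_le fun i => le_iSup_of_le i le_rfl

theorem exists_mem_Dc (x : Proj 𝒜) : ∃ i, x ∈ Dc i := Opens.mem_iSup.1 (iSup_Dc.ge trivial)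

/-- The frame of a twist on a chart. -/
def tfr (d : ℤ) (i : Fin (n + 1)) : Γ(Twist.twist 𝒜 d, Dc i) :=
  twPow (X_mem i) d (nonVan_of_le le_rfl)

theorem isFrame_tfr (d : ℤ) (i : Fin (n + 1)) : IsFrame (M := Twist.twist 𝒜 d) (tfr (R := R) d i) :=
  fun V hV => (triv (X_mem i) d (nonVan_of_le hV)).bijective

variable (K : Type u) [Field K] [Algebra (MvPolynomial (Fin (n + 1)) R) K]
  [IsFractionRing (MvPolynomial (Fin (n + 1)) R) K]

/-- The transition functions of a twist. -/
theorem ev_tfr (d : ℤ) (a b : Fin (n + 1)) {W : (Proj 𝒜).Opens} (ha : W ≤ Dc a) (hb : W ≤ Dc b) (h : eta ∈ W)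
    {g : Γ(Proj 𝒜, W)} (hg : g • res (Twist.twist 𝒜 d) hb (tfr d b) = res (Twist.twist 𝒜 d) ha (tfr d a)) :
    ev K W h g = (xv R K a / xv R K b) ^ d := by
  have h0 := congrArg (fun s : Twist.sectN («𝒜» := CohB1.polyGrading n R) d (op W) => (s.1 ⟨eta, h⟩).1) hg
  have h1 : ((g.1 ⟨eta, h⟩).val * Localization.mk ((MvPolynomial.X b : P) ^ d.toNat)
        ⟨(MvPolynomial.X b : P) ^ (-d).toNat, pow_notMem (hb h) _⟩ : Twist.Loc 𝒜 eta) =
      Localization.mk ((MvPolynomial.X a : P) ^ d.toNat)
        ⟨(MvPolynomial.X a : P) ^ (-d).toNat, pow_notMem (ha h) _⟩ :=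
    (trivMap_apply (X_mem b) d (nonVan_of_le hb) g ⟨eta, h⟩).symm.trans h0
  have h2 := congrArg (locHom K) h1
  rw [map_mul, locHom_mk, locHom_mk, map_pow, map_pow, map_pow, map_pow] at h2
  have hd : ∀ c : Fin (n + 1), xv R K c ^ d.toNat / xv R K c ^ (-d).toNat = xv R K c ^ d := fun c => by
    rw [← zpow_natCast, ← zpow_natCast, ← zpow_sub₀ (xv_ne_zero K c)]
    congr 1
    omega
  change ev K W h g * (xv R K b ^ _ / xv R K b ^ _) = xv R K a ^ _ / xv R K a ^ _ at h2
  rw [hd, hd] at h2
  rw [div_zpow, eq_div_iff (zpow_ne_zero _ (xv_ne_zero K b))]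
  exact h2

variable {K} [UniqueFactorizationMonoid R]

/-- Frames with proportional transition functions give an isomorphism. -/
theorem nonempty_iso_of_frames {L M : (Proj 𝒜).Modules} (e : ∀ i, Γ(L, Dc i)) (f : ∀ i, Γ(M, Dc i))
    (he : ∀ i, IsFrame (e i)) (hf : ∀ i, IsFrame (f i))
    (hc : ∀ a b (W : (Proj 𝒜).Opens) (ha : W ≤ Dc a) (hb : W ≤ Dc b) (g g' : Γ(Proj 𝒜, W)),
      g • res L hb (e b) = res L ha (e a) → g' • res M hb (f b) = res M ha (f a) → g = g') :
    Nonempty (L ≅ M) := by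
  let U : ULift.{u} (Fin (n + 1)) → (Proj 𝒜).Opens := fun i => Dc i.down
  have hcov : ∀ x, ∃ a, x ∈ U a := fun x => (exists_mem_Dc x).elim fun i hi => ⟨⟨i⟩, hi⟩
  let φ : L ⟶ M := ofFrames (U := U) (e := fun i => e i.down) (n := fun i => f i.down) hcov (fun i => he i.down)
    fun a b W ha hb g h => by
      obtain ⟨g', hg'⟩ := (hf a.down).exists_coord ha (res M hb (f b.down))
      rw [hc b.down a.down W hb ha g g' h.symm hg'.symm]
      exact hg'
  let ψ : M ⟶ L := ofFrames (U := U) (e := fun i => f i.down) (n := fun i => e i.down) hcov (fun i => hf i.down)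
    fun a b W ha hb g h => by
      obtain ⟨g', hg'⟩ := (he a.down).exists_coord ha (res L hb (e b.down))
      rw [← hc b.down a.down W hb ha g' g hg'.symm h.symm]
      exact hg'
  refine ⟨⟨φ, ψ, hom_ext_of_frames U hcov (fun i => e i.down) (fun i => he i.down) fun i => ?_,
    hom_ext_of_frames U hcov (fun i => f i.down) (fun i => hf i.down) fun i => ?_⟩⟩
  · show ψ.app (U i) (φ.app (U i) (e i.down)) = e i.down
    rw [ofFrames_app, ofFrames_app]
  · show φ.app (U i) (ψ.app (U i) (f i.down)) = f i.down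
    rw [ofFrames_app, ofFrames_app]

/-- Every invertible module is a twist. -/
theorem exists_twist_aux (K : Type u) [Field K] [Algebra P K] [IsFractionRing P K]
    {L : (Proj 𝒜).Modules} (hL : PicF.IsInvertible L) :
    ∃ d : ℤ, Nonempty (L ≅ Twist.twist 𝒜 d) := by
  classical
  choose e he using fun i => exists_frame_chart n R hL i
  choose g hg using fun i j : Fin (n + 1) =>
    (he j).exists_coord (inf_le_right : Dc i ⊓ Dc j ≤ Dc j) (res L inf_le_left (e i))
  let τ : Fin (n + 1) → Fin (n + 1) → K := fun i j => ev K _ (eta_inf i j) (g i j)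
  have hev : ∀ (a b : Fin (n + 1)) (W : (Proj 𝒜).Opens) (ha : W ≤ Dc a) (hb : W ≤ Dc b) (h : eta ∈ W)
      (k : Γ(Proj 𝒜, W)), k • res L hb (e b) = res L ha (e a) → ev K W h k = τ a b := by
    intro a b W ha hb h k hk
    have : k = resR (le_inf ha hb) (g a b) := by
      refine (he b).coord_unique hb (hk.trans ?_)
      have h1 := congrArg (res L (le_inf ha hb)) (hg a b)
      simp only [res_smul, res_res] at h1
      exact h1
    rw [this]
    exact ev_res K (homOfLE (le_inf ha hb)) (eta_inf a b) h (g a b)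
  have hτ : ∀ i j l, τ i l = τ i j * τ j l := by
    intro i j l
    let W := Dc (R := R) i ⊓ Dc j ⊓ Dc l
    have hi : W ≤ Dc i := inf_le_left.trans inf_le_left
    have hj : W ≤ Dc j := inf_le_left.trans inf_le_right
    have hl : W ≤ Dc l := inf_le_right
    have h : eta ∈ W := ⟨eta_inf i j, eta_mem_Dc l⟩
    obtain ⟨u, hu⟩ := (he j).exists_coord hj (res L hi (e i))
    obtain ⟨v, hv⟩ := (he l).exists_coord hl (res L hj (e j))
    rw [← hev i j W hi hj h u hu.symm, ← hev j l W hj hl h v hv.symm, ← map_mul]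
    refine (hev i l W hi hl h _ ?_).symm
    rw [mul_smul, ← hv, ← hu]
  have hτ1 : ∀ i, τ i i = 1 := fun i => by
    rw [← hev i i (Dc i) le_rfl le_rfl (eta_mem_Dc i) 1 (one_smul _ _), map_one]
  have hunit : ∀ i j, IsUnit (g i j) := by
    intro i j
    have hle : Dc (R := R) i ⊓ Dc j ≤ Dc j ⊓ Dc i := le_inf inf_le_right inf_le_left
    refine IsUnit.of_mul_eq_one (resR hle (g j i)) (ev_injective (K := K) _ (eta_inf i j) ?_)
    rw [map_mul, map_one, show ev K _ (eta_inf i j) (resR hle (g j i)) = τ j i from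
      ev_res K (homOfLE hle) (eta_inf j i) (eta_inf i j) (g j i)]
    exact (hτ i j i).symm.trans (hτ1 i)
  choose c m hc hm using fun i j => exists_unit_value K i j (hunit i j)
  have hcommon : ∃ (d : ℤ) (c₀ : Fin (n + 1) → R), (∀ i, IsUnit (c₀ i)) ∧
      ∀ i, τ i 0 = kv n K (c₀ i) * (xv R K (0 : Fin (n + 1)) / xv R K i) ^ d := by
    have hq : ∀ i j l, i ≠ j → i ≠ l → j ≠ l → m i l = m j l := by
      intro i j l hij hil hjl
      have h1 := hτ i j l
      simp only [τ, hm] at h1
      have hi := xv_ne_zero (R := R) K i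
      have hj := xv_ne_zero (R := R) K j
      have hl := xv_ne_zero (R := R) K l
      have key : (kv n K (c i j * c j l) : K) * (xv R K i ^ (m i l - m i j) * (xv R K j ^ (m i j - m j l) *
          xv R K l ^ (m j l - m i l))) = kv n K (c i l) := by
        rw [map_mul, zpow_sub₀ hi, zpow_sub₀ hj, zpow_sub₀ hl]
        rw [div_zpow, div_zpow, div_zpow] at h1
        field_simp at h1 ⊢
        linear_combination -h1
      obtain ⟨p₁, p₂, -, -⟩ := indep K hij hil hjl ((hc i j).mul (hc j l)).ne_zero key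
      omega
    by_cases hn : ∃ i : Fin (n + 1), i ≠ 0
    · obtain ⟨i₁, hi₁⟩ := hn
      refine ⟨m i₁ 0, fun i => if i = 0 then 1 else c i 0, fun i => ?_, fun i => ?_⟩
      · beta_reduce; split_ifs
        exacts [isUnit_one, hc i 0]
      · beta_reduce
        by_cases hi : i = 0
        · subst hi
          rw [hτ1, if_pos rfl, map_one, one_mul, div_self (xv_ne_zero K _), one_zpow]
        · rw [if_neg hi, show τ i 0 = _ from hm i 0]
          by_cases h : i = i₁
          · rw [h]
          · rw [hq i i₁ 0 h hi hi₁]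
    · push Not at hn
      refine ⟨0, fun _ => 1, fun _ => isUnit_one, fun i => ?_⟩
      rw [hn i, hτ1, map_one, one_mul, zpow_zero]
  obtain ⟨d, c₀, hc₀, hd⟩ := hcommon
  have hconst : ∀ i, IsUnit (const (n := n) (Dc i) (c₀ i)) := fun i => by
    obtain ⟨w, hw⟩ := (hc₀ i).exists_right_inv
    refine IsUnit.of_mul_eq_one (const (Dc i) w) (ev_injective (K := K) _ (eta_mem_Dc i) ?_)
    rw [map_mul, ev_const, ev_const, ← map_mul, hw, map_one, map_one]
  refine ⟨-d, nonempty_iso_of_frames e (fun i => const (Dc i) (c₀ i) • tfr (-d) i) he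
    (fun i => (isFrame_tfr (-d) i).isUnit_smul (hconst i)) fun a b W ha hb k k' hk hk' => ?_⟩
  refine eq_of_locally (M := Coh.structureModule (Proj 𝒜)) _ _ fun x hx => ?_
  obtain ⟨_, ⟨f, rfl⟩, hxf, hfW⟩ :=
    (ProjectiveSpectrum.isTopologicalBasis_basic_opens 𝒜).exists_subset_of_mem_open hx W.2
  have hf : f ≠ 0 := fun h => by
    subst h
    exact hxf (zero_mem _)
  have h : eta ∈ W := hfW (mem_D hf)
  refine ⟨W, le_rfl, hx, ?_⟩
  rw [res_self, res_self]
  refine ev_injective (K := K) W h ?_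
  simp only [res_smul] at hk'
  obtain ⟨u, hu⟩ := (isFrame_tfr (-d) b).exists_coord hb (res (Twist.twist 𝒜 (-d)) ha (tfr (-d) a))
  have hu' := ev_tfr K (-d) a b ha hb h hu.symm
  rw [hu, ← mul_smul, ← mul_smul] at hk'
  have h3 := congrArg (ev K W h) ((isFrame_tfr (-d) b).coord_unique hb hk')
  rw [map_mul, map_mul, hu', show ev K W h (resR hb (const (Dc b) (c₀ b))) = kv n K (c₀ b) from ev_const K W h _,
    show ev K W h (resR ha (const (Dc a) (c₀ a))) = kv n K (c₀ a) from ev_const K W h _] at h3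
  have hb0 : (kv n K (c₀ b) : K) ≠ 0 := ((hc₀ b).map (kv n K)).ne_zero
  have h4 := hτ a b 0
  rw [hd a, hd b, ← hev a b W ha hb h k hk] at h4
  have := xv_ne_zero (R := R) K a
  have := xv_ne_zero (R := R) K b
  have := xv_ne_zero (R := R) K (0 : Fin (n + 1))
  rw [div_zpow, div_zpow] at h4
  rw [zpow_neg, div_zpow] at h3
  field_simp at h3 h4
  refine mul_right_cancel₀ (mul_ne_zero hb0 (zpow_ne_zero d (xv_ne_zero (R := R) K a))) ?_
  linear_combination -h4 - h3

/-- Every invertible module is a twist. -/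
theorem exists_twist {L : (Proj 𝒜).Modules} (hL : PicF.IsInvertible L) :
    ∃ d : ℤ, Nonempty (L ≅ Twist.twist 𝒜 d) :=
  let P' := MvPolynomial (Fin (n + 1)) R
  have h : ∀ (K : Type u) (_ : Field K) (_ : Algebra P' K) (_ : IsFractionRing P' K), ∃ d : ℤ, Nonempty (L ≅ Twist.twist 𝒜 d) :=
    fun K _ _ _ => exists_twist_aux K hL
  h (FractionRing P') inferInstance inferInstance inferInstance

end Groth.Agent.PicPnLib
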