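import Groth.Agent.PicPnLib.Value
import Groth.Agent.InvUfdLib.Trivial
import Groth.Agent.InvUfdLib.Extend
import Groth.Agent.PicClLib.Basic
import Mathlib.AlgebraicGeometry.ProjectiveSpectrum.Proper
import Mathlib.RingTheory.MvPolynomial.Ideal

/-!
# The charts of projective space over a factorial ring; invertible modules are trivial on them
-/

set_option linter.style.haveILetI false
set_option linter.unusedSectionVars false
set_option backward.isDefEq.respectTransparency false
set_option backward.isDefEq.respectTransparency.types false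
set_option maxHeartbeats 1000000

universe u

open CategoryTheory AlgebraicGeometry TopologicalSpace Opposite
open HomogeneousLocalization (Away)

noncomputable section

namespace Groth.Agent.PicPnLib

variable (n : ℕ) (k : Type u) [CommRing k]

local notation "𝒜" => CohB1.polyGrading n k
local notation "T" => (MvPolynomial.X : Fin (n + 1) → MvPolynomial (Fin (n + 1)) k)

theorem X_mem_one (j : Fin (n + 1)) : T j ∈ 𝒜 1 := MvPolynomial.isHomogeneous_X k j

/-- The coordinate `T_j / T_i` on the chart `D₊(T_i)`. -/
def coord (i j : Fin (n + 1)) : Away 𝒜 (T i) :=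
  Away.mk 𝒜 (X_mem_one n k i) 1 (T j) (by rw [one_smul]; exact X_mem_one n k j)

/-- The structure map of the chart. -/
def base (i : Fin (n + 1)) : k →+* Away 𝒜 (T i) :=
  (HomogeneousLocalization.fromZeroRingHom 𝒜 _).comp (algebraMap k (𝒜 0))

/-- Dehomogenisation with respect to `T_i`. -/
def dehom (i : Fin (n + 1)) : MvPolynomial (Fin (n + 1)) k →+* Away 𝒜 (T i) :=
  MvPolynomial.eval₂Hom (base n k i) (coord n k i)

theorem val_base (i : Fin (n + 1)) (c : k) :
    (base n k i c).val = algebraMap (MvPolynomial (Fin (n + 1)) k) _ (MvPolynomial.C c) := by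
  show (HomogeneousLocalization.mk _).val = _
  rw [HomogeneousLocalization.val_mk, ← Localization.mk_one_eq_algebraMap]
  rfl

theorem val_coord (i j : Fin (n + 1)) :
    (coord n k i j).val * algebraMap (MvPolynomial (Fin (n + 1)) k) _ (T i) =
      algebraMap (MvPolynomial (Fin (n + 1)) k) (Localization (Submonoid.powers (T i))) (T j) := by
  rw [coord, HomogeneousLocalization.Away.val_mk, ← Localization.mk_one_eq_algebraMap,
    ← Localization.mk_one_eq_algebraMap, Localization.mk_mul, Localization.mk_eq_mk_iff,
    Localization.r_iff_exists]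
  exact ⟨1, by simp [mul_comm]⟩

theorem val_dehom_mul (i : Fin (n + 1)) {m : ℕ} {x : MvPolynomial (Fin (n + 1)) k}
    (hx : x.IsHomogeneous m) :
    (dehom n k i x).val * algebraMap _ _ (T i) ^ m =
      algebraMap (MvPolynomial (Fin (n + 1)) k) (Localization (Submonoid.powers (T i))) x := by
  classical
  let val : Away 𝒜 (T i) →+* Localization (Submonoid.powers (T i)) := algebraMap _ _
  show val (dehom n k i x) * _ = _
  have hsum := x.as_sum
  rw [hsum, map_sum, map_sum, map_sum, Finset.sum_mul]
  refine Finset.sum_congr rfl fun d hd => ?_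
  have hdeg : ∑ j ∈ d.support, d j = m := by
    have := hx (MvPolynomial.mem_support_iff.1 hd)
    rwa [Finsupp.weight_apply, Finsupp.sum, Finset.sum_congr rfl fun j _ => (by simp : d j • (1 : Fin (n+1) → ℕ) j = d j)] at this
  rw [MvPolynomial.monomial_eq, Finsupp.prod, map_mul, map_mul, map_mul, map_prod, map_prod,
    map_prod, ← hdeg, ← Finset.prod_pow_eq_pow_sum, mul_assoc, ← Finset.prod_mul_distrib]
  congr 1
  · show val (dehom n k i (MvPolynomial.C _)) = _
    rw [dehom, MvPolynomial.eval₂Hom_C]
    exact val_base n k i _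
  · refine Finset.prod_congr rfl fun j _ => ?_
    rw [map_pow, map_pow, map_pow, ← mul_pow]
    congr 1
    rw [dehom, MvPolynomial.eval₂Hom_X']
    exact val_coord n k i j

/-- Every element of the chart is the dehomogenisation of a polynomial. -/
theorem surjective_dehom (i : Fin (n + 1)) : Function.Surjective (dehom n k i) := by
  intro z
  obtain ⟨m, x, hx, rfl⟩ := HomogeneousLocalization.Away.mk_surjective 𝒜 (X_mem_one n k i) z
  refine ⟨x, HomogeneousLocalization.val_injective _ ?_⟩
  have hu : IsUnit (algebraMap (MvPolynomial (Fin (n + 1)) k)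
      (Localization (Submonoid.powers (T i))) (T i) ^ m) :=
    (IsLocalization.map_units _ (⟨T i, 1, pow_one _⟩ : Submonoid.powers (T i))).pow m
  refine hu.mul_left_injective ?_
  show _ * _ = _ * _
  rw [val_dehom_mul n k i (by simpa using hx), HomogeneousLocalization.Away.val_mk,
    ← map_pow, ← Localization.mk_one_eq_algebraMap, ← Localization.mk_one_eq_algebraMap,
    Localization.mk_mul, Localization.mk_eq_mk_iff, Localization.r_iff_exists]
  exact ⟨1, by simp [mul_comm]⟩

/-- The index set of the chart coordinates. -/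
abbrev Idx (i : Fin (n + 1)) : Type u := ULift.{u} {j : Fin (n + 1) // j ≠ i}

/-- Setting `T_i = 1`. -/
def dh (i : Fin (n + 1)) : MvPolynomial (Fin (n + 1)) k →+* MvPolynomial (Idx n i) k :=
  (MvPolynomial.aeval fun j => if h : j = i then 1 else MvPolynomial.X (ULift.up ⟨j, h⟩)).toRingHom

/-- The coordinates map. -/
def fromChart (i : Fin (n + 1)) : MvPolynomial (Idx n i) k →+* Away 𝒜 (T i) :=
  MvPolynomial.eval₂Hom (base n k i) fun j => coord n k i j.down.1

theorem coord_self (i : Fin (n + 1)) : coord n k i i = 1 :=
  HomogeneousLocalization.val_injective _ (by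
    rw [HomogeneousLocalization.val_one]
    have h := val_coord n k i i
    have hu : IsUnit (algebraMap (MvPolynomial (Fin (n + 1)) k) (Localization (Submonoid.powers (T i))) (T i)) :=
      IsLocalization.map_units _ (⟨T i, 1, pow_one _⟩ : Submonoid.powers (T i))
    exact hu.mul_left_injective (h.trans (_root_.one_mul _).symm))

theorem fromChart_surjective (i : Fin (n + 1)) : Function.Surjective (fromChart n k i) := by
  have h : (fromChart n k i).comp (dh n k i) = dehom n k i := by
    apply MvPolynomial.ringHom_ext
    · intro c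
      simp [fromChart, dh, dehom]
    · intro j
      by_cases hj : j = i
      · subst hj; simp [fromChart, dh, dehom, coord_self]
      · simp [fromChart, dh, dehom, hj]
  intro z
  obtain ⟨x, rfl⟩ := surjective_dehom n k i z
  exact ⟨dh n k i x, congr($h x)⟩

theorem fromChart_injective (i : Fin (n + 1)) : Function.Injective (fromChart n k i) := by
  have hu : IsUnit (dh n k i (T i)) := by simp [dh]
  let L : Localization (Submonoid.powers (T i)) →+* MvPolynomial (Idx n i) k :=
    IsLocalization.Away.lift (T i) hu
  let val : Away 𝒜 (T i) →+* Localization (Submonoid.powers (T i)) := algebraMap _ _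
  have h : (L.comp val).comp (fromChart n k i) = RingHom.id _ := by
    apply MvPolynomial.ringHom_ext
    · intro c
      show L (val (fromChart n k i (MvPolynomial.C c))) = _
      rw [fromChart, MvPolynomial.eval₂Hom_C]
      show L ((base n k i c).val) = _
      rw [val_base, IsLocalization.Away.lift_eq]
      simp [dh]
    · rintro ⟨j, hj⟩
      show L (val (fromChart n k i (MvPolynomial.X (ULift.up ⟨j, hj⟩)))) = _
      rw [fromChart, MvPolynomial.eval₂Hom_X']
      have h := congrArg L (val_coord n k i j)
      rw [map_mul, IsLocalization.Away.lift_eq, IsLocalization.Away.lift_eq] at h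
      have h1 : dh n k i (T i) = 1 := by simp [dh]
      rw [h1, _root_.mul_one] at h
      show L ((coord n k i j).val) = _
      rw [h]
      simp [dh, hj]
  exact fun a b hab => by
    have := congrArg (L.comp val) hab
    rwa [← RingHom.comp_apply, ← RingHom.comp_apply, h] at this

variable [IsDomain k] [UniqueFactorizationMonoid k]

theorem isDomain_chart (i : Fin (n + 1)) : IsDomain (Away 𝒜 (T i)) :=
  ((RingEquiv.ofBijective (fromChart.{u, u} n k i) ⟨fromChart_injective n k i, fromChart_surjective n k i⟩).symm).toMulEquiv.isDomain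
    (MvPolynomial (Idx n i) k)

theorem ufd_chart (i : Fin (n + 1)) :
    haveI := isDomain_chart n k i
    UniqueFactorizationMonoid (Away 𝒜 (T i)) :=
  haveI := isDomain_chart n k i
  (RingEquiv.ofBijective (fromChart.{u, u} n k i) ⟨fromChart_injective n k i, fromChart_surjective n k i⟩).toMulEquiv.uniqueFactorizationMonoid
    inferInstance

open Groth.Agent.AModX Groth.Agent.InvX in
/-- An invertible module has a frame on each chart. -/
theorem exists_frame_chart {L : (Proj 𝒜).Modules} (hL : PicF.IsInvertible L) (i : Fin (n + 1)) :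
    ∃ e : Γ(L, Dc i), IsFrame e := by
  haveI := isDomain_chart n k i
  haveI := ufd_chart n k i
  let j := Proj.awayι 𝒜 (T i) (X_mem_one n k i) Nat.one_pos
  let U : (Spec (CommRingCat.of (Away 𝒜 (T i)))).Opens := ⊤
  let g := U.ι ≫ j
  have hL' : PicF.IsInvertible ((Scheme.Modules.pullback g).obj L) := PicClLib.isInvertible_pullback g hL
  obtain ⟨φ⟩ := InvUfdLib.nonempty_iso (R := CommRingCat.of (Away 𝒜 (T i))) U _ hL'
  let ψ : L.restrict g ≅ Coh.structureModule U.toScheme :=
    (Scheme.Modules.restrictFunctorIsoPullback g).app L ≪≫ φ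
  have hfr : IsFrame (M := L.restrict g) (ψ.inv.app ⊤ (1 : Γ(U.toScheme, ⊤))) := by
    refine InvUfdLib.isFrame_of_app ψ.hom (fun W _ =>
      (ConcreteCategory.isIso_iff_bijective _).1 (Scheme.Modules.Hom.isIso_iff_isIso_app.1 inferInstance W)) ?_
    have h1 : ψ.hom.app ⊤ (ψ.inv.app ⊤ (1 : Γ(U.toScheme, ⊤))) = (1 : Γ(U.toScheme, ⊤)) :=
      congrArg (fun f : Coh.structureModule U.toScheme ⟶ Coh.structureModule U.toScheme => Scheme.Modules.Hom.app f ⊤ (1 : Γ(U.toScheme, ⊤))) ψ.inv_hom_id
    rw [h1]
    exact InvUfdLib.isFrame_one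
  have he := InvUfdLib.isFrame_of_restrict g hfr
  have hr : g.opensRange = Dc i := by
    haveI : IsIso U.ι := (Scheme.topIso _).isIso_hom
    rw [Scheme.Hom.opensRange_comp_of_isIso U.ι j]
    exact Proj.opensRange_awayι 𝒜 (T i) (X_mem_one n k i) Nat.one_pos
  have hle : Dc i ≤ g ''ᵁ ⊤ := by rw [Scheme.Hom.image_top_eq_opensRange, hr]
  exact ⟨_, he.res hle⟩

end Groth.Agent.PicPnLib
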