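import Groth.Agent.PnCoh.Finite.HomTwist
import Groth.Agent.Proj16.RelDomain
import Mathlib.RingTheory.MvPolynomial.Ideal
import Groth.Agent.InvUfdLib.Units
import Groth.Prelude.Def_CohB1
import Mathlib.RingTheory.Polynomial.UniqueFactorization
import Mathlib.Algebra.MvPolynomial.Nilpotent

/-!
# Values of functions of projective space at the generic point
-/

set_option linter.style.haveILetI false
set_option linter.unusedSectionVars false
set_option backward.isDefEq.respectTransparency false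
set_option backward.isDefEq.respectTransparency.types false
set_option maxHeartbeats 1000000

universe u

open CategoryTheory AlgebraicGeometry TopologicalSpace Opposite
open Groth.Agent.PnCoh Groth.Agent.PnCoh.Finite

noncomputable section

namespace Groth.Agent.PicPnLib

variable {n : ℕ} {R : Type u} [CommRing R] [IsDomain R]

local notation "𝒜" => CohB1.polyGrading n R
local notation "P" => MvPolynomial (Fin (n + 1)) R

theorem X_mem (i : Fin (n + 1)) : (MvPolynomial.X i : P) ∈ 𝒜 1 := MvPolynomial.isHomogeneous_X R i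

/-- The chart. -/
abbrev Dc (i : Fin (n + 1)) : (Proj 𝒜).Opens := D 𝒜 (MvPolynomial.X i)

/-- The generic point. -/
def eta : ProjectiveSpectrum 𝒜 :=
  ⟨⊥, by rw [HomogeneousIdeal.toIdeal_bot]; exact Ideal.isPrime_bot, fun h => by
    have hm : (MvPolynomial.X 0 : P) ∈ (⊥ : HomogeneousIdeal 𝒜) :=
      h (HomogeneousIdeal.mem_irrelevant_of_mem 𝒜 Nat.one_pos (X_mem 0))
    rw [← HomogeneousIdeal.mem_iff, HomogeneousIdeal.toIdeal_bot, Ideal.mem_bot] at hm
    exact MvPolynomial.X_ne_zero 0 hm⟩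

theorem mem_D {f : P} (hf : f ≠ 0) : (eta (n := n) (R := R)) ∈ D 𝒜 f := fun h => by
  have h' : f ∈ (⊥ : HomogeneousIdeal 𝒜) := h
  rw [← HomogeneousIdeal.mem_iff, HomogeneousIdeal.toIdeal_bot, Ideal.mem_bot] at h'
  exact hf h'

theorem eta_mem_Dc (i : Fin (n + 1)) : eta (n := n) (R := R) ∈ Dc i := mem_D (MvPolynomial.X_ne_zero i)

theorem eta_inf (i j : Fin (n + 1)) : eta (n := n) (R := R) ∈ Dc i ⊓ Dc (R := R) j :=
  ⟨eta_mem_Dc i, eta_mem_Dc j⟩

variable {K : Type u} [Field K] [Algebra (MvPolynomial (Fin (n + 1)) R) K]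
  [IsFractionRing (MvPolynomial (Fin (n + 1)) R) K]

theorem ne_zero_of_primeCompl (s : (eta (n := n) (R := R)).asHomogeneousIdeal.toIdeal.primeCompl) : s.1 ≠ 0 := by
  intro h
  exact s.2 (h ▸ Submodule.zero_mem _)

theorem isUnit_frac (s : (eta (n := n) (R := R)).asHomogeneousIdeal.toIdeal.primeCompl) :
    IsUnit (algebraMap P K s.1) :=
  isUnit_iff_ne_zero.2 ((map_ne_zero_iff _ (IsFractionRing.injective P K)).2 (ne_zero_of_primeCompl s))

variable (K)

/-- The local ring at the generic point inside the field of fractions. -/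
def locHom : Twist.Loc 𝒜 eta →+* K := IsLocalization.lift (isUnit_frac (n := n) (R := R) (K := K))

theorem locHom_mk (a : P) (s : (eta (n := n) (R := R)).asHomogeneousIdeal.toIdeal.primeCompl) :
    locHom K (Localization.mk a s) = algebraMap P (K) a / algebraMap P (K) s.1 := by
  have h := congrArg (locHom K) (IsLocalization.mk'_spec (Twist.Loc 𝒜 eta) a s)
  rw [map_mul] at h
  simp only [locHom, IsLocalization.lift_eq] at h
  rw [eq_div_iff (isUnit_frac s).ne_zero, locHom, Localization.mk_eq_mk']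
  exact h

theorem locHom_injective : Function.Injective (locHom (n := n) (R := R) K) := by
  refine (injective_iff_map_eq_zero _).2 fun z hz => ?_
  obtain ⟨⟨a, s⟩, rfl⟩ := IsLocalization.mk'_surjective (eta (n := n) (R := R)).asHomogeneousIdeal.toIdeal.primeCompl z
  simp only [Function.uncurry] at hz ⊢
  rw [← Localization.mk_eq_mk', locHom_mk K, div_eq_zero_iff] at hz
  rcases hz with h | h
  · rw [IsFractionRing.injective P K (h.trans (map_zero _).symm), IsLocalization.mk'_zero]
  · exact absurd h (isUnit_frac s).ne_zero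

/-- The value of a function at the generic point. -/
def ev (V : (Proj 𝒜).Opens) (h : eta ∈ V) : Γ(Proj 𝒜, V) →+* K where
  toFun s := locHom K (s.1 ⟨eta, h⟩).val
  map_one' := (congrArg (locHom K) HomogeneousLocalization.val_one).trans (map_one _)
  map_mul' s t := (congrArg (locHom K) (HomogeneousLocalization.val_mul _ _)).trans (map_mul _ _ _)
  map_zero' := (congrArg (locHom K) HomogeneousLocalization.val_zero).trans (map_zero _)
  map_add' s t := (congrArg (locHom K) (HomogeneousLocalization.val_add _ _)).trans (map_add _ _ _)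

theorem ev_res {V W : (Proj 𝒜).Opens} (i : W ⟶ V) (hV : eta ∈ V) (hW : eta ∈ W) (s : Γ(Proj 𝒜, V)) :
    ev K W hW ((Proj 𝒜).presheaf.map i.op s) = ev K V hV s := rfl

theorem ev_injective (V : (Proj 𝒜).Opens) (h : eta ∈ V) : Function.Injective (ev K V h) := by
  haveI : IsIntegral (Proj 𝒜) := by
    refine Proj16.isIntegral_proj_of_isDomain 𝒜 fun h => ?_
    have hm : (MvPolynomial.X 0 : P) ∈ (HomogeneousIdeal.irrelevant 𝒜).toIdeal :=
      HomogeneousIdeal.mem_irrelevant_of_mem 𝒜 Nat.one_pos (X_mem 0)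
    rw [h, Ideal.mem_bot] at hm
    exact MvPolynomial.X_ne_zero 0 hm
  intro s t hst
  refine germ_injective_of_isIntegral (Proj 𝒜) eta h ((Proj.stalkIso 𝒜 eta).commRingCatIsoToRingEquiv.injective ?_)
  refine ((Proj.stalkIso'_germ 𝒜 V eta h s).trans ?_).trans (Proj.stalkIso'_germ 𝒜 V eta h t).symm
  exact HomogeneousLocalization.val_injective _ (locHom_injective K hst)

variable (R) in
/-- The variables in the field of fractions. -/
def xv (i : Fin (n + 1)) : K := algebraMap P _ (MvPolynomial.X i)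

theorem xv_ne_zero (i : Fin (n + 1)) : (xv R K i : K) ≠ 0 := fun h =>
  MvPolynomial.X_ne_zero (R := R) i (IsFractionRing.injective P K (h.trans (map_zero _).symm))

variable (n) in
/-- The constants in the field of fractions. -/
def kv : R →+* K := (algebraMap P _).comp MvPolynomial.C

theorem ev_rr (i j : Fin (n + 1)) {V : (Proj 𝒜).Opens} (hV : V ≤ Dc i) (h : eta ∈ V) :
    ev K V h (rr (X_mem i) (X_mem j) hV) = xv R K j / xv R K i :=
  (congrArg (locHom K) (rr_val _ _ hV ⟨eta, h⟩)).trans (locHom_mk K _ _)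

/-- Constant functions. -/
def const (V : (Proj 𝒜).Opens) (c : R) : Γ(Proj 𝒜, V) :=
  ⟨fun x => HomogeneousLocalization.mk ⟨0, ⟨MvPolynomial.C c, MvPolynomial.isHomogeneous_C _ c⟩,
      ⟨1, MvPolynomial.isHomogeneous_one _ _⟩, (Ideal.ne_top_iff_one _).1 x.1.isPrime.ne_top⟩,
    fun x => ⟨V, x.2, 𝟙 _, 0, ⟨MvPolynomial.C c, MvPolynomial.isHomogeneous_C _ c⟩,
      ⟨1, MvPolynomial.isHomogeneous_one _ _⟩, fun y => (Ideal.ne_top_iff_one _).1 y.1.isPrime.ne_top,
      fun _ => rfl⟩⟩

theorem ev_const (V : (Proj 𝒜).Opens) (h : eta ∈ V) (c : R) : ev K V h (const V c) = kv n K c := by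
  refine (congrArg (locHom K) (HomogeneousLocalization.val_mk _)).trans ((locHom_mk K _ _).trans ?_)
  show algebraMap P (K) (MvPolynomial.C c) / algebraMap P (K) 1 = _
  rw [map_one, div_one]
  rfl

theorem const_res {V W : (Proj 𝒜).Opens} (i : W ⟶ V) (c : R) :
    (Proj 𝒜).presheaf.map i.op (const V c) = const W c := rfl

variable [UniqueFactorizationMonoid R]

theorem prime_X (i : Fin (n + 1)) : Prime (MvPolynomial.X i : P) := MvPolynomial.X_prime

/-- Values of units on the intersection of two charts. -/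
theorem exists_unit_value (i j : Fin (n + 1)) {s : Γ(Proj 𝒜, Dc i ⊓ Dc j)} (hs : IsUnit s) :
    ∃ (c : R) (m : ℤ), IsUnit c ∧ ev K _ (eta_inf i j) s = kv n K c * (xv R K j / xv R K i) ^ m := by
  obtain ⟨t, ht⟩ := hs.exists_right_inv
  let f : P := MvPolynomial.X i * MvPolynomial.X j
  have hf : f ∈ 𝒜 2 := (X_mem i).mul (X_mem j)
  have hD : D 𝒜 f = Dc i ⊓ Dc j := Proj.basicOpen_mul 𝒜 _ _
  have key : ∀ w : Γ(Proj 𝒜, Dc i ⊓ Dc j), ∃ (a : ℕ) (F : P), F.IsHomogeneous (a * 2) ∧
      ev K _ (eta_inf i j) w = algebraMap P _ F / algebraMap P _ f ^ a := by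
    intro w
    obtain ⟨z, hz⟩ := (ConcreteCategory.bijective_of_isIso (Proj.basicOpenIsoAway 𝒜 f hf (by norm_num)).hom).2
      ((Proj 𝒜).presheaf.map (homOfLE hD.le).op w)
    obtain ⟨a, F, hF, rfl⟩ := HomogeneousLocalization.Away.mk_surjective 𝒜 hf z
    refine ⟨a, F, by simpa using hF, ?_⟩
    have h1 := congrArg (ev K (D 𝒜 f) (hD ▸ eta_inf i j)) hz
    rw [ev_res K _ (eta_inf i j)] at h1
    rw [← h1]
    refine (congrArg (locHom K) (ProjectiveSpectrum.Proj.awayToSection_apply 𝒜 f _ _)).trans ?_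
    rw [HomogeneousLocalization.Away.val_mk, Localization.mk_eq_mk', IsLocalization.map_mk',
      ← Localization.mk_eq_mk', locHom_mk K]
    simp
  obtain ⟨a, F, hF, hsv⟩ := key s
  obtain ⟨b, G, hG, htv⟩ := key t
  have hfe : algebraMap P (K) f = xv R K i * xv R K j := map_mul _ _ _
  have hf0 : algebraMap P (K) f ≠ 0 := hfe ▸ mul_ne_zero (xv_ne_zero (R := R) K i) (xv_ne_zero (R := R) K j)
  have h2 : F * G = f ^ (a + b) := by
    apply IsFractionRing.injective P K
    have h1 := congrArg (ev K _ (eta_inf i j)) ht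
    rw [map_mul, map_one, hsv, htv, div_mul_div_comm, div_eq_one_iff_eq (by positivity), ← pow_add] at h1
    rw [map_mul, map_pow]
    exact h1
  obtain ⟨p, r', hr', rfl⟩ := InvUfdLib.exists_pow_mul_of_dvd (prime_X i) (Dvd.intro G h2)
  rw [← mul_one (MvPolynomial.X j : P)] at hr'
  obtain ⟨q, r'', hr'', rfl⟩ := InvUfdLib.exists_pow_mul_of_dvd (prime_X j) hr'
  rw [one_pow] at hr''
  obtain ⟨c, hc, rfl⟩ := MvPolynomial.isUnit_iff_eq_C_of_isReduced.1 (isUnit_of_dvd_one hr'')
  have hpq : p + q = a * 2 := by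
    have h3 : (MvPolynomial.X i ^ p * (MvPolynomial.X j ^ q * MvPolynomial.C c) : P).IsHomogeneous (p + (q + 0)) :=
      ((MvPolynomial.isHomogeneous_X_pow i p).mul
        ((MvPolynomial.isHomogeneous_X_pow j q).mul (MvPolynomial.isHomogeneous_C _ c)))
    have := h3.inj_right hF (mul_ne_zero (pow_ne_zero _ (MvPolynomial.X_ne_zero i))
      (mul_ne_zero (pow_ne_zero _ (MvPolynomial.X_ne_zero j)) (MvPolynomial.C_ne_zero.2 hc.ne_zero)))
    omega
  refine ⟨c, (q : ℤ) - a, hc, ?_⟩
  rw [hsv, map_mul, map_mul, map_pow, map_pow, hfe]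
  show xv R K i ^ p * (xv R K j ^ q * kv n K c) / _ = _
  rw [show (q : ℤ) - a = (a : ℤ) - p by omega, div_zpow, zpow_sub₀ (xv_ne_zero (R := R) K j), zpow_sub₀ (xv_ne_zero (R := R) K i),
    zpow_natCast, zpow_natCast, zpow_natCast, zpow_natCast]
  have := xv_ne_zero (R := R) K i
  have := xv_ne_zero (R := R) K j
  field_simp
  rw [mul_pow, show (p : ℕ) = p from rfl]
  have hpow : (xv R K j : K) ^ (p + q) = xv R K j ^ (a * 2) := by rw [hpq]
  rw [pow_add, pow_mul, pow_two] at hpow
  linear_combination (xv R K i ^ (a : ℕ) * kv n K c) * hpow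

/-- Monomials are independent. -/
theorem indep {i j l : Fin (n + 1)} (hij : i ≠ j) (hil : i ≠ l) (hjl : j ≠ l) {c d : R} (hc : c ≠ 0)
    {p q r : ℤ} (h : (kv n K c : K) * (xv R K i ^ p * (xv R K j ^ q * xv R K l ^ r)) = kv n K d) :
    p = 0 ∧ q = 0 ∧ r = 0 ∧ c = d := by
  have hz : ∀ (m : Fin (n + 1)) (z : ℤ), (xv R K m : K) ^ z = xv R K m ^ z.toNat / xv R K m ^ (-z).toNat :=
    fun m z => by
      rw [← zpow_natCast, ← zpow_natCast, ← zpow_sub₀ (xv_ne_zero (R := R) K m)]
      congr 1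
      omega
  rw [hz i, hz j, hz l] at h
  have := xv_ne_zero (R := R) K i
  have := xv_ne_zero (R := R) K j
  have := xv_ne_zero (R := R) K l
  field_simp at h
  let A : Fin (n + 1) →₀ ℕ := Finsupp.single i p.toNat + (Finsupp.single j q.toNat + Finsupp.single l r.toNat)
  let B : Fin (n + 1) →₀ ℕ := Finsupp.single i (-p).toNat + (Finsupp.single j (-q).toNat + Finsupp.single l (-r).toNat)
  have hm : ∀ (x y z : ℕ) (e : R), algebraMap P (K)
      (MvPolynomial.monomial (Finsupp.single i x + (Finsupp.single j y + Finsupp.single l z)) e) =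
      kv n K e * (xv R K i ^ x * (xv R K j ^ y * xv R K l ^ z)) := fun x y z e => by
    rw [kv, xv, xv, xv, RingHom.comp_apply, ← map_pow, ← map_pow, ← map_pow, ← map_mul, ← map_mul, ← map_mul]
    congr 1
    rw [MvPolynomial.X_pow_eq_monomial, MvPolynomial.X_pow_eq_monomial, MvPolynomial.X_pow_eq_monomial,
      MvPolynomial.monomial_mul, MvPolynomial.monomial_mul, MvPolynomial.C_mul_monomial]
    simp
  have h' : MvPolynomial.monomial A c = MvPolynomial.monomial B d := by
    apply IsFractionRing.injective P K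
    rw [hm, hm]
    linear_combination h
  rcases (MvPolynomial.monomial_eq_monomial_iff A B c d).1 h' with ⟨hAB, rfl⟩ | ⟨h0, -⟩
  · have hi := Finsupp.ext_iff.1 hAB i
    have hj := Finsupp.ext_iff.1 hAB j
    have hl := Finsupp.ext_iff.1 hAB l
    simp [A, B, Finsupp.single_apply, hij, hil, hjl, hij.symm, hil.symm, hjl.symm] at hi hj hl
    exact ⟨by omega, by omega, by omega, rfl⟩
  · exact absurd h0 hc

/-- Two monomials in a ratio. -/
theorem indep₂ {i j : Fin (n + 1)} (hij : i ≠ j) {c d : R} (hc : c ≠ 0) {m : ℤ}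
    (h : (kv n K c : K) * (xv R K j / xv R K i) ^ m = kv n K d) : m = 0 ∧ c = d := by
  have hz : ∀ (v : Fin (n + 1)) (z : ℤ), (xv R K v : K) ^ z = xv R K v ^ z.toNat / xv R K v ^ (-z).toNat :=
    fun v z => by
      rw [← zpow_natCast, ← zpow_natCast, ← zpow_sub₀ (xv_ne_zero (R := R) K v)]
      congr 1
      omega
  rw [div_zpow, hz i, hz j] at h
  have := xv_ne_zero (R := R) K i
  have := xv_ne_zero (R := R) K j
  field_simp at h
  have hm : ∀ (x y : ℕ) (e : R), algebraMap P (K)
      (MvPolynomial.monomial (Finsupp.single i x + Finsupp.single j y) e) = kv n K e * (xv R K i ^ x * xv R K j ^ y) :=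
    fun x y e => by
    rw [kv, xv, xv, RingHom.comp_apply, ← map_pow, ← map_pow, ← map_mul, ← map_mul]
    congr 1
    rw [MvPolynomial.X_pow_eq_monomial, MvPolynomial.X_pow_eq_monomial,
      MvPolynomial.monomial_mul, MvPolynomial.C_mul_monomial]
    simp
  have h' : MvPolynomial.monomial (Finsupp.single i (-m).toNat + Finsupp.single j m.toNat) c =
      MvPolynomial.monomial (Finsupp.single i m.toNat + Finsupp.single j (-m).toNat) d := by
    apply IsFractionRing.injective P K
    rw [hm, hm]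
    linear_combination h
  rcases (MvPolynomial.monomial_eq_monomial_iff _ _ c d).1 h' with ⟨hAB, rfl⟩ | ⟨h0, -⟩
  · have hi := Finsupp.ext_iff.1 hAB i
    simp [Finsupp.single_apply, hij, hij.symm] at hi
    exact ⟨by omega, rfl⟩
  · exact absurd h0 hc

end Groth.Agent.PicPnLib
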